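import Mathlib
import Cfsg.Agent.Lib.ThreeTransp.SymFive

/-!
Involutions with the relations of the adjacent transpositions define a map of the symmetric group.
-/

set_option autoImplicit false

namespace Cfsg.Agent.ThreeTransp.SymStep

open CharTheory.AltPresentation

variable {G : Type*} [Group G]

/-- The Coxeter relations of type `A` for `s 0, …, s n`. -/
structure Braids (s : ℕ → G) (n : ℕ) : Prop where
  sq : ∀ i, i ≤ n → s i * s i = 1
  adj : ∀ i, i < n → (s i * s (i + 1)) ^ 3 = 1
  far : ∀ i j, i + 1 < j → j ≤ n → Commute (s i) (s j)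

theorem sqc {a b : G} (ha : a * a = 1) (hb : b * b = 1) (hc : Commute a b) : (a * b) ^ 2 = 1 := by
  rw [hc.mul_pow, pow_two, pow_two, ha, hb, one_mul]

/-- The map of the symmetric group. -/
theorem exists_hom {s : ℕ → G} {n : ℕ} (hn : 1 ≤ n) (h : Braids s n) :
    ∃ f : Equiv.Perm (Fin (n + 2)) →* G, ∀ i, i ≤ n → f (sw n i) = s i := by
  classical
  set g : ℕ → Equiv.Perm (Fin (n + 2)) × G := fun i => (sw n i, s i) with hg
  have gsq : ∀ i, i ≤ n → g i * g i = 1 := fun i hi => Prod.ext (sw_sq n i) (h.sq i hi)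
  have gadj : ∀ i, i < n → (g i * g (i + 1)) ^ 3 = 1 := fun i hi =>
    Prod.ext (sw_adj (by omega)) (h.adj i hi)
  have gfar : ∀ i j, i + 1 < j → j ≤ n → Commute (g i) (g j) := fun i j hij hj =>
    Prod.ext (sw_far (by omega) hij) (h.far i j hij hj).eq
  have g0 := gsq 0 (Nat.zero_le n)
  let x : ℕ → Equiv.Perm (Fin (n + 2)) × G := fun i => g 0 * g (i + 1)
  have e0 : ∀ y, g 0 * (g 0 * y) = y := fun y => by rw [← mul_assoc, g0, one_mul]
  have hrels : Rels x n := by
    refine ⟨fun hm => gadj 0 hm, fun i h1 hi => sqc g0 (gsq _ (by omega))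
      (gfar 0 (i + 1) (by omega) (by omega)), fun i hi => ?_, fun i j hij hj => ?_⟩
    · have hc : Commute (g 0) (g (i + 1 + 1)) := gfar _ _ (by omega) (by omega)
      show (g 0 * g (i + 1) * (g 0 * g (i + 1 + 1))) ^ 3 = 1
      rw [show g 0 * g (i + 1) * (g 0 * g (i + 1 + 1)) = g 0 * (g (i + 1) * g (i + 1 + 1)) * g 0 by
        rw [hc.eq]; simp only [mul_assoc], SymFive.conj_pow_three g0, gadj (i + 1) (by omega),
        mul_one, g0]
    · have hc : Commute (g 0) (g (j + 1)) := gfar _ _ (by omega) (by omega)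
      have h2 := sqc (gsq (i + 1) (by omega)) (gsq (j + 1) (by omega))
        (gfar (i + 1) (j + 1) (by omega) (by omega))
      show (g 0 * g (i + 1) * (g 0 * g (j + 1))) ^ 2 = 1
      rw [pow_two] at h2 ⊢
      rw [show g 0 * g (i + 1) * (g 0 * g (j + 1)) = g 0 * (g (i + 1) * g (j + 1)) * g 0 by
        rw [hc.eq]; simp only [mul_assoc],
        show g 0 * (g (i + 1) * g (j + 1)) * g 0 * (g 0 * (g (i + 1) * g (j + 1)) * g 0) =
          g 0 * ((g (i + 1) * g (j + 1)) * (g (i + 1) * g (j + 1))) * g 0 by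
          simp only [mul_assoc, e0], h2, mul_one, g0]
  set R := Subgroup.closure (x '' Set.Iio n) with hR
  obtain ⟨hfin, hcard⟩ := card_closure_le hrels n hn le_rfl
  rw [← hR] at hfin hcard
  set Γ := Subgroup.closure (g '' Set.Iic n) with hΓ
  have hx : ∀ i, i ≤ n → g 0 * g i ∈ R := fun i hi => by
    rcases i with - | i
    · rw [g0]; exact one_mem _
    · exact Subgroup.subset_closure ⟨i, show i < n by omega, rfl⟩
  have hx' : ∀ i, i ≤ n → g i * g 0 ∈ R := fun i hi => by
    have := R.inv_mem (hx i hi)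
    rwa [mul_inv_rev, inv_eq_of_mul_eq_one_right (gsq i hi),
      inv_eq_of_mul_eq_one_right g0] at this
  have hΓR : ∀ y ∈ Γ, y ∈ R ∨ y * g 0 ∈ R := by
    intro y hy
    have step : ∀ (y : Equiv.Perm (Fin (n + 2)) × G) (i : ℕ), i ≤ n → (y ∈ R ∨ y * g 0 ∈ R) →
        (y * g i ∈ R ∨ y * g i * g 0 ∈ R) := by
      intro y i hi h
      rcases h with h | h
      · right; rw [mul_assoc]; exact R.mul_mem h (hx' i hi)
      · left
        have := R.mul_mem h (hx i hi)
        rwa [← mul_assoc, mul_assoc y, g0, mul_one] at this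
    induction hy using Subgroup.closure_induction_right with
    | one => exact Or.inl R.one_mem
    | mul_right z _ w hw ih => obtain ⟨i, hi, rfl⟩ := hw; exact step z i hi ih
    | mul_inv_cancel z _ w hw ih =>
      obtain ⟨i, hi, rfl⟩ := hw
      rw [inv_eq_of_mul_eq_one_right (gsq i hi)]
      exact step z i hi ih
  let enc : Γ → R × Bool := fun y =>
    if h : (y : Equiv.Perm (Fin (n + 2)) × G) ∈ R then (⟨y, h⟩, true)
    else (⟨y * g 0, (hΓR y y.2).resolve_left h⟩, false)
  have henc : Function.Injective enc := fun a b h => by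
    apply Subtype.ext
    simp only [enc] at h
    split_ifs at h
    · simpa using h
    · simp at h
    · simp at h
    · simpa using h
  have := hfin
  have : Finite Γ := Finite.of_injective enc henc
  have hΓcard : Nat.card Γ ≤ (n + 2).factorial := by
    have := Nat.card_le_card_of_injective enc henc
    rw [Nat.card_prod, Nat.card_eq_fintype_card (α := Bool), Fintype.card_bool] at this
    omega
  let p : Γ →* Equiv.Perm (Fin (n + 2)) := (MonoidHom.fst _ _).comp Γ.subtype
  have hp : Function.Surjective p := by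
    intro σ
    have hσ : σ ∈ Submonoid.closure
        (Set.range fun i : Fin (n + 1) => Equiv.swap i.castSucc i.succ) := by
      rw [Equiv.Perm.mclosure_swap_castSucc_succ (n + 1)]; exact Submonoid.mem_top σ
    have : σ ∈ p.range := by
      induction hσ using Submonoid.closure_induction with
      | mem y hy =>
        obtain ⟨i, rfl⟩ := hy
        refine ⟨⟨g i, Subgroup.subset_closure ⟨i, Fin.is_le i, rfl⟩⟩, ?_⟩
        show sw n i = Equiv.swap i.castSucc i.succ
        unfold sw
        have := i.2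
        congr 1 <;> · apply Fin.ext; simp [pt, Nat.mod_eq_of_lt, show (i : ℕ) < n + 2 by omega,
          show (i : ℕ) + 1 < n + 2 by omega]
      | one => exact one_mem _
      | mul a b _ _ ha hb => exact mul_mem ha hb
    exact this
  have hfac : Nat.card (Equiv.Perm (Fin (n + 2))) = (n + 2).factorial := by
    rw [Nat.card_eq_fintype_card, Fintype.card_perm, Fintype.card_fin]
  have hbij : Function.Bijective p := (Nat.bijective_iff_surjective_and_card p).2
    ⟨hp, le_antisymm (hfac ▸ hΓcard) (Nat.card_le_card_of_surjective p hp)⟩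
  refine ⟨((MonoidHom.snd _ _).comp Γ.subtype).comp
    (MulEquiv.ofBijective p hbij).symm.toMonoidHom, fun i hi => ?_⟩
  have : (MulEquiv.ofBijective p hbij).symm (sw n i) =
      ⟨g i, Subgroup.subset_closure ⟨i, hi, rfl⟩⟩ :=
    (MulEquiv.ofBijective p hbij).symm_apply_eq.2 rfl
  simp [this, hg]

end Cfsg.Agent.ThreeTransp.SymStep
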