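import Mathlib
import Cfsg.Agent.Lib.ThreeTransp.SymStep.Coxeter

/-!
Transpositions: commuting, small counts, and faithfulness of maps of symmetric groups.
-/

set_option autoImplicit false

namespace Cfsg.Agent.ThreeTransp.SymStep

/-- Two pairs are equal or disjoint. -/
abbrev Par {n : ℕ} (p q r s : Fin n) : Prop :=
  (p = r ∧ q = s) ∨ (p = s ∧ q = r) ∨ (p ≠ r ∧ p ≠ s ∧ q ≠ r ∧ q ≠ s)

/-- The pairs away from two given ones. -/
abbrev away {n : ℕ} (p q r s : Fin n) : Finset (Fin n × Fin n) :=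
  Finset.univ.filter fun z => z.1 < z.2 ∧
    z.1 ≠ p ∧ z.1 ≠ q ∧ z.1 ≠ r ∧ z.1 ≠ s ∧ z.2 ≠ p ∧ z.2 ≠ q ∧ z.2 ≠ r ∧ z.2 ≠ s

theorem away_seven : ∀ p q r s : Fin 7, p ≠ q → r ≠ s → ¬ Par p q r s →
    (away p q r s).card = 6 := by
  decide +kernel

theorem away_nine : ∀ p q : Fin 9, p ≠ q → (away p q p q).card = 21 := by
  decide +kernel

theorem pairs_seven : (Finset.univ.filter fun z : Fin 7 × Fin 7 => z.1 < z.2).card = 21 := by
  decide +kernel

theorem pairs_nine : (Finset.univ.filter fun z : Fin 9 × Fin 9 => z.1 < z.2).card = 36 := by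
  decide +kernel

/-- A classification of five points with six equal pairs is four and one. -/
theorem four_one : ∀ c : Fin 5 → Fin 5,
    (Finset.univ.filter fun z : Fin 5 × Fin 5 => z.1 < z.2 ∧ c z.1 = c z.2).card = 6 →
    ∃ q, ∀ x, x ≠ q → c x ≠ c q ∧ ∀ y, y ≠ q → c x = c y := by
  decide +kernel

variable {α : Type*} [DecidableEq α]

theorem swap_inj {p q r s : α} (hpq : p ≠ q) (h : Equiv.swap p q = Equiv.swap r s) :
    (p = r ∧ q = s) ∨ (p = s ∧ q = r) := by
  have h1 := congrArg (fun σ : Equiv.Perm α => σ p) h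
  simp only [Equiv.swap_apply_left, Equiv.swap_apply_def] at h1
  split_ifs at h1 with e1 e2
  · exact Or.inl ⟨e1, h1⟩
  · exact Or.inr ⟨e2, h1⟩
  · exact absurd h1.symm hpq

theorem swap_commute_iff {n : ℕ} {p q r s : Fin n} (hpq : p ≠ q) (hrs : r ≠ s) :
    Commute (Equiv.swap p q) (Equiv.swap r s) ↔ Par p q r s := by
  constructor
  · intro h
    have e : Equiv.swap (Equiv.swap p q r) (Equiv.swap p q s) = Equiv.swap r s := by
      rw [Equiv.swap_apply_apply, h.eq, mul_inv_cancel_right]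
    rcases swap_inj (fun e => hrs ((Equiv.swap p q).injective e)) e with ⟨h1, h2⟩ | ⟨h1, h2⟩
    · have k : ∀ x, Equiv.swap p q x = x → p ≠ x ∧ q ≠ x := fun x hx =>
        ⟨fun e => hpq (by subst e; rw [Equiv.swap_apply_left] at hx; exact hx.symm),
          fun e => hpq (by subst e; rw [Equiv.swap_apply_right] at hx; exact hx)⟩
      exact Or.inr (Or.inr ⟨(k r h1).1, (k s h2).1, (k r h1).2, (k s h2).2⟩)
    · by_cases hp : r = p
      · subst hp
        rw [Equiv.swap_apply_left] at h1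
        exact Or.inl ⟨rfl, h1⟩
      · by_cases hq : r = q
        · subst hq
          rw [Equiv.swap_apply_right] at h1
          exact Or.inr (Or.inl ⟨h1, rfl⟩)
        · rw [Equiv.swap_apply_of_ne_of_ne hp hq] at h1
          exact absurd h1 hrs
  · rintro (⟨rfl, rfl⟩ | ⟨rfl, rfl⟩ | ⟨h1, h2, h3, h4⟩)
    · exact Commute.refl _
    · rw [Equiv.swap_comm]
    · exact (Equiv.Perm.disjoint_swap_swap (by simp [hpq, hrs, h1, h2, h3, h4])).commute

/-- The transpositions correspond to the increasing pairs. -/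
theorem ncard_image_pairs {n : ℕ} {G : Type*} [Group G] {f : Equiv.Perm (Fin n) →* G}
    (hf : Function.Injective f) (A : Finset (Fin n × Fin n)) (hA : ∀ z ∈ A, z.1 < z.2) :
    ((fun z : Fin n × Fin n => f (Equiv.swap z.1 z.2)) '' (A : Set (Fin n × Fin n))).ncard =
      A.card := by
  rw [Set.InjOn.ncard_image, Set.ncard_coe_finset]
  intro z hz w hw e
  rcases swap_inj (hA z hz).ne (hf e) with ⟨h1, h2⟩ | ⟨h1, h2⟩
  · exact Prod.ext h1 h2
  · exact absurd (hA w hw) (not_lt.2 (h1 ▸ h2 ▸ (hA z hz).le))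

/-- A map of a symmetric group separating two adjacent transpositions is injective. -/
theorem injective_of {m : ℕ} (hm : 5 ≤ m) {G : Type*} [Group G] {f : Equiv.Perm (Fin m) →* G}
    {u v w : Fin m} (huv : u ≠ v) (hvw : v ≠ w) (huw : u ≠ w)
    (h : f (Equiv.swap u v) ≠ f (Equiv.swap v w)) : Function.Injective f := by
  have := alternatingGroup.isSimpleGroup (α := Fin m) (by simpa using hm)
  set A := alternatingGroup (Fin m)
  have hcyc : (Equiv.swap u v * Equiv.swap v w).IsThreeCycle := by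
    rw [Equiv.swap_comm u v]
    exact Equiv.Perm.isThreeCycle_swap_mul_swap_same huv.symm hvw huw
  have hbot : f.ker.subgroupOf A = ⊥ := by
    refine (Subgroup.Normal.eq_bot_or_eq_top
      (inferInstance : (f.ker.subgroupOf A).Normal)).resolve_right fun ht => h ?_
    have h1 : Equiv.swap u v * Equiv.swap v w ∈ f.ker :=
      (Subgroup.subgroupOf_eq_top.1 ht) hcyc.mem_alternatingGroup
    rw [MonoidHom.mem_ker, map_mul] at h1
    rw [eq_inv_of_mul_eq_one_left h1, ← map_inv, Equiv.swap_inv]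
  rw [← MonoidHom.ker_eq_bot_iff, eq_bot_iff]
  intro g hg
  have key : ∀ a ∈ A, g * a = a * g := by
    intro a ha
    have hm : g * a * g⁻¹ * a⁻¹ ∈ f.ker := by
      simp [MonoidHom.mem_ker, MonoidHom.mem_ker.1 hg]
    have hA : g * a * g⁻¹ * a⁻¹ ∈ A :=
      A.mul_mem ((inferInstance : A.Normal).conj_mem a ha g) (A.inv_mem ha)
    have : (⟨_, hA⟩ : A) ∈ f.ker.subgroupOf A := hm
    rw [hbot, Subgroup.mem_bot] at this
    exact mul_inv_eq_iff_eq_mul.1 (mul_inv_eq_one.1 (congrArg Subtype.val this))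
  refine Subgroup.mem_bot.2 (Equiv.ext fun x => ?_)
  by_contra hx
  obtain ⟨z, -, hz⟩ := Finset.exists_mem_notMem_of_card_lt_card
    (s := ({x, g x, g⁻¹ x} : Finset (Fin m))) (t := Finset.univ)
    (by have := Finset.card_le_three (a := x) (b := g x) (c := g⁻¹ x); simp only [Finset.card_univ, Fintype.card_fin]; omega)
  simp only [Finset.mem_insert, Finset.mem_singleton, not_or] at hz
  obtain ⟨hzx, hzy, hzi⟩ := hz
  obtain ⟨y, hy⟩ : ∃ y, y = Equiv.swap x z * Equiv.swap z (g x) := ⟨_, rfl⟩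
  have h3 : y.IsThreeCycle := by
    rw [hy, Equiv.swap_comm x z]
    exact Equiv.Perm.isThreeCycle_swap_mul_swap_same hzx hzy (fun e => hx e.symm)
  have e := congrArg (fun σ : Equiv.Perm (Fin m) => σ x) (key y h3.mem_alternatingGroup)
  simp only [hy, Equiv.Perm.mul_apply, Equiv.Perm.one_apply] at e hx
  rw [Equiv.swap_apply_of_ne_of_ne (Ne.symm hzx) (fun e => hx e.symm), Equiv.swap_apply_left,
    Equiv.swap_apply_right, Equiv.swap_apply_right] at e
  exact hzi (g.eq_symm_apply.2 e)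

end Cfsg.Agent.ThreeTransp.SymStep
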